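import Mathlib
import Cfsg.Agent.Lib.TcPres
import Cfsg.Prelude.Def_Spor_Ly

set_option autoImplicit false

namespace Cfsg.Agent.TcData.Ly

open Cfsg.Spor Cfsg.Agent.Lib.TcFacts Cfsg.Agent.Lib.TcBits Cfsg.Agent.Lib.TcPres Cfsg.Spor.Ly

/-- The relators of the presentation. -/
abbrev RR : Set (FreeGroup Gen) := coxRelators edges ∪ {r | r ∈ extra}

/-- The letter of a signed generator. -/
def enc : Gen → Bool → ℕ
  | .a, true => 0
  | .a, false => 1
  | .b, true => 2
  | .b, false => 3
  | .c, true => 4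
  | .c, false => 5
  | .d, true => 6
  | .d, false => 7
  | .z, true => 8
  | .z, false => 9
  | .e, true => 10
  | .e, false => 11
  | .a1, true => 12
  | .a1, false => 13
  | .a2, true => 14
  | .a2, false => 15
  | .a3, true => 16
  | .a3, false => 17
  | .a4, true => 18
  | .a4, false => 19
  | .c1, true => 20
  | .c1, false => 21
  | .c2, true => 22
  | .c2, false => 23
  | .c3, true => 24
  | .c3, false => 25
  | .c4, true => 26
  | .c4, false => 27
  | .c5, true => 28
  | .c5, false => 29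
  | .u, true => 30
  | .u, false => 31
  | .x23, true => 32
  | .x23, false => 33
  | .x24, true => 34
  | .x24, false => 35
  | .x25, true => 36
  | .x25, false => 37
  | .x29, true => 38
  | .x29, false => 39
  | .x47, true => 40
  | .x47, false => 41
  | .x96, true => 42
  | .x96, false => 43
  | .x129, true => 44
  | .x129, false => 45
  | .x162, true => 46
  | .x162, false => 47
  | .x163, true => 48
  | .x163, false => 49
  | .x164, true => 50
  | .x164, false => 51
  | .x165, true => 52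
  | .x165, false => 53
  | .x166, true => 54
  | .x166, false => 55
  | .x167, true => 56
  | .x167, false => 57
  | .x168, true => 58
  | .x168, false => 59
  | .x169, true => 60
  | .x169, false => 61
  | .x364, true => 62
  | .x364, false => 63
  | .x365, true => 64
  | .x365, false => 65
  | .x366, true => 66
  | .x366, false => 67
  | .x367, true => 68
  | .x367, false => 69
  | .x368, true => 70
  | .x368, false => 71
  | .x369, true => 72
  | .x369, false => 73
  | .x370, true => 74
  | .x370, false => 75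
  | .x371, true => 76
  | .x371, false => 77

/-- The letters. -/
noncomputable def gL : List (FreeGroup Gen) :=
  [FreeGroup.of .a, (FreeGroup.of .a)⁻¹, FreeGroup.of .b, (FreeGroup.of .b)⁻¹, FreeGroup.of .c, (FreeGroup.of .c)⁻¹, FreeGroup.of .d, (FreeGroup.of .d)⁻¹, FreeGroup.of .z, (FreeGroup.of .z)⁻¹, FreeGroup.of .e, (FreeGroup.of .e)⁻¹, FreeGroup.of .a1, (FreeGroup.of .a1)⁻¹, FreeGroup.of .a2, (FreeGroup.of .a2)⁻¹, FreeGroup.of .a3, (FreeGroup.of .a3)⁻¹, FreeGroup.of .a4, (FreeGroup.of .a4)⁻¹, FreeGroup.of .c1, (FreeGroup.of .c1)⁻¹, FreeGroup.of .c2, (FreeGroup.of .c2)⁻¹, FreeGroup.of .c3, (FreeGroup.of .c3)⁻¹, FreeGroup.of .c4, (FreeGroup.of .c4)⁻¹, FreeGroup.of .c5, (FreeGroup.of .c5)⁻¹, FreeGroup.of .u, (FreeGroup.of .u)⁻¹, FreeGroup.of .x23, (FreeGroup.of .x23)⁻¹, FreeGroup.of .x24, (FreeGroup.of .x24)⁻¹, FreeGroup.of .x25, (FreeGroup.of .x25)⁻¹, FreeGroup.of .x29, (FreeGroup.of .x29)⁻¹, FreeGroup.of .x47, (FreeGroup.of .x47)⁻¹, FreeGroup.of .x96, (FreeGroup.of .x96)⁻¹,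 FreeGroup.of .x129, (FreeGroup.of .x129)⁻¹, FreeGroup.of .x162, (FreeGroup.of .x162)⁻¹, FreeGroup.of .x163, (FreeGroup.of .x163)⁻¹, FreeGroup.of .x164, (FreeGroup.of .x164)⁻¹, FreeGroup.of .x165, (FreeGroup.of .x165)⁻¹, FreeGroup.of .x166, (FreeGroup.of .x166)⁻¹, FreeGroup.of .x167, (FreeGroup.of .x167)⁻¹, FreeGroup.of .x168, (FreeGroup.of .x168)⁻¹, FreeGroup.of .x169, (FreeGroup.of .x169)⁻¹, FreeGroup.of .x364, (FreeGroup.of .x364)⁻¹, FreeGroup.of .x365, (FreeGroup.of .x365)⁻¹, FreeGroup.of .x366, (FreeGroup.of .x366)⁻¹, FreeGroup.of .x367, (FreeGroup.of .x367)⁻¹, FreeGroup.of .x368, (FreeGroup.of .x368)⁻¹, FreeGroup.of .x369, (FreeGroup.of .x369)⁻¹, FreeGroup.of .x370, (FreeGroup.of .x370)⁻¹, FreeGroup.of .x371, (FreeGroup.of .x371)⁻¹]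

/-- The nodes of the graph. -/
def nodesL : List Gen := []

/-- The generators. -/
def gensL : List Gen := [.a, .b, .c, .d, .z, .e, .a1, .a2, .a3, .a4, .c1, .c2, .c3, .c4, .c5, .u, .x23, .x24, .x25, .x29, .x47, .x96, .x129, .x162, .x163, .x164, .x165, .x166, .x167, .x168, .x169, .x364, .x365, .x366, .x367, .x368, .x369, .x370, .x371]

/-- All relators, as a list. -/
noncomputable def relL : List (FreeGroup Gen) := relAll edges nodesL extra

theorem hrel : ∀ r ∈ relL, PresentedGroup.mk RR r = 1 := relAll_spec (by decide)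

theorem hnodes : ∀ x ∈ coxNodes edges, x ∈ nodesL := by decide

theorem hL : ∀ x b, enc x b < 78 := by
  intro x b; cases x <;> cases b <;> decide

theorem hlen : 78 = gL.length := rfl

theorem hℓ (macros : List (FreeGroup Gen)) : ∀ x b, letter RR gL macros (enc x b) =
    cond b (PresentedGroup.of x) (PresentedGroup.of x)⁻¹ := by
  intro x b
  cases x <;> cases b <;>
    first
      | rfl
      | exact map_inv _ _
      | exact (inv_of_node (by decide)).symm

end Cfsg.Agent.TcData.Ly
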